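import Mathlib

/-!
# A birational isolated point over a normal local ring
-/

universe u

namespace Groth.Agent.CAlgZMT

/-- Zariski's main theorem, birational form. -/
theorem bijective_of_isolated (A B K : Type u) [CommRing A]
    [IsDomain A] [IsNoetherianRing A] [IsLocalRing A] [IsIntegrallyClosed A] [CommRing B] [IsDomain B]
    [Field K] [Algebra A B] [Algebra B K] [Algebra A K] [IsScalarTower A B K] [IsFractionRing A K]
    [IsFractionRing B K] [Algebra.FiniteType A B] (n : Ideal B) [n.IsMaximal]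
    (hn : n.comap (algebraMap A B) = IsLocalRing.maximalIdeal A)
    (hmin : ∀ q : Ideal B, q.IsPrime → q.comap (algebraMap A B) = IsLocalRing.maximalIdeal A → q ≤ n → q = n) :
    Function.Bijective (algebraMap A B) := by
  classical
  have hinj : Function.Injective (algebraMap A B) :=
    Function.Injective.of_comp (f := algebraMap B K) (by
      rw [← RingHom.coe_comp, ← IsScalarTower.algebraMap_eq]; exact IsFractionRing.injective A K)
  let m := n.under A
  haveI : m.IsMaximal := by
    show (n.comap (algebraMap A B)).IsMaximal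
    rw [hn]; infer_instance
  let F := B ⧸ m.map (algebraMap A B)
  let q := n.map (Ideal.Quotient.mk (m.map (algebraMap A B)))
  have hle : m.map (algebraMap A B) ≤ n := Ideal.map_comap_le
  have hqn : q.comap (Ideal.Quotient.mk _) = n := by
    rw [Ideal.comap_map_of_surjective _ Ideal.Quotient.mk_surjective, ← RingHom.ker_eq_comap_bot,
      Ideal.mk_ker, sup_eq_left.2 hle]
  haveI hqp : q.IsPrime := Ideal.map_isPrime_of_surjective Ideal.Quotient.mk_surjective (by rwa [Ideal.mk_ker])
  haveI : Algebra.FiniteType (A ⧸ m) F := Algebra.FiniteType.of_restrictScalars_finiteType A _ _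
  haveI : IsNoetherianRing B := Algebra.FiniteType.isNoetherianRing A B
  letI : Field (A ⧸ m) := Ideal.Quotient.field m
  have hqmax : q.IsMaximal :=
    (Ideal.map_eq_top_or_isMaximal_of_surjective _ Ideal.Quotient.mk_surjective ‹n.IsMaximal›).resolve_left
      hqp.ne_top
  have hqmin : q ∈ minimalPrimes F := by
    refine ⟨⟨hqp, bot_le⟩, fun P ⟨hP, _⟩ hPq => ?_⟩
    let P' := P.comap (Ideal.Quotient.mk (m.map (algebraMap A B)))
    have hP' : P' ≤ n := hqn ▸ Ideal.comap_mono hPq
    have hcomap : P'.comap (algebraMap A B) = IsLocalRing.maximalIdeal A := by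
      refine ((hn ▸ (inferInstance : m.IsMaximal) : (IsLocalRing.maximalIdeal A).IsMaximal).eq_of_le
        (Ideal.IsPrime.comap _ (hK := hP.comap _)).ne_top ?_).symm
      intro a ha
      show Ideal.Quotient.mk _ (algebraMap A B a) ∈ P
      rw [Ideal.Quotient.eq_zero_iff_mem.2 (Ideal.mem_map_of_mem _ (show a ∈ n.comap (algebraMap A B) by rwa [hn]))]
      exact P.zero_mem
    have := hmin P' (hP.comap _) hcomap hP'
    intro x hx
    obtain ⟨b, rfl⟩ := Ideal.Quotient.mk_surjective x
    have hb : b ∈ P' := by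
      rw [this, ← hqn]; exact hx
    exact hb
  have hopen : IsOpen ({⟨q, hqp⟩} : Set (PrimeSpectrum F)) := by
    let S : Set (Ideal F) := minimalPrimes F \ {q}
    have hSfin : S.Finite := (minimalPrimes.finite_of_isNoetherianRing F).subset Set.diff_subset
    have heq : ({⟨q, hqp⟩} : Set (PrimeSpectrum F))ᶜ = ⋃ P ∈ S, PrimeSpectrum.zeroLocus (P : Set F) := by
      ext x
      simp only [Set.mem_compl_iff, Set.mem_singleton_iff, Set.mem_iUnion, PrimeSpectrum.mem_zeroLocus,
        SetLike.coe_subset_coe, exists_prop]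
      constructor
      · intro hx
        obtain ⟨P, hP, hPx⟩ := Ideal.exists_minimalPrimes_le (I := (⊥ : Ideal F)) (J := x.asIdeal) bot_le
        refine ⟨P, ⟨hP, fun e => hx (PrimeSpectrum.ext ?_)⟩, hPx⟩
        rw [Set.mem_singleton_iff] at e
        subst e
        exact (hqmax.eq_of_le x.2.ne_top hPx).symm
      · rintro ⟨P, ⟨hP, hPq⟩, hPx⟩ rfl
        exact hPq (le_antisymm hPx (hqmin.2 ⟨hP.1.1, bot_le⟩ hPx))
    rw [← isClosed_compl_iff, heq]
    exact hSfin.isClosed_biUnion fun P _ => PrimeSpectrum.isClosed_zeroLocus _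
  haveI : Algebra.QuasiFiniteAt (A ⧸ m) q :=
    Algebra.QuasiFiniteAt.of_isOpen_singleton (⟨q, hqp⟩ : PrimeSpectrum F) hopen
  haveI : Algebra.WeaklyQuasiFiniteAt A n := by
    show Algebra.QuasiFinite A (Localization.AtPrime q)
    exact Algebra.QuasiFinite.trans A (A ⧸ m) _
  obtain ⟨r, hr, hrint, hx⟩ := Algebra.zariskisMainProperty_iff.1
    (Algebra.ZariskisMainProperty.of_finiteType_of_weaklyQuasiFiniteAt (R := A) n)
  have key : ∀ b : B, IsIntegral A b → b ∈ (algebraMap A B).range := fun b hb => by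
    obtain ⟨a, ha⟩ := IsIntegrallyClosed.isIntegral_iff.1 (hb.map (IsScalarTower.toAlgHom A B K))
    refine ⟨a, IsFractionRing.injective B K ?_⟩
    rw [← IsScalarTower.algebraMap_apply, ha]
    rfl
  obtain ⟨r₀, rfl⟩ := key r hrint
  have hu : IsUnit r₀ := by
    by_contra h
    exact hr (show r₀ ∈ n.comap (algebraMap A B) by rw [hn]; exact h)
  refine ⟨hinj, fun b => ?_⟩
  obtain ⟨k, hk⟩ := hx b
  obtain ⟨a, ha⟩ := key _ hk
  obtain ⟨i, hi⟩ := (hu.pow k).exists_left_inv
  refine ⟨i * a, ?_⟩
  rw [map_mul, ha, ← mul_assoc, ← map_pow, ← map_mul, hi, map_one, one_mul]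

end Groth.Agent.CAlgZMT
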